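import Cfsg.Agent.H613.KKL.Defs
import Cfsg.Agent.MThirteen.TwoA

/-!
# S4546: the row of the Monster (helper821)

* `cfg0_map`, `noCfg_congr` : transport of `Cfg0` and `NoCfg` along isomorphisms;
* `le_of_conj`, `not_mem_conj` : a large normal 2-subgroup of the centralizer of an involution;
* `E_M`.
-/

set_option autoImplicit false

open Cfsg Cfsg.Agent.H613.KKL
open Subgroup (centralizer mem_centralizer_singleton_iff)

namespace Cfsg.Agent.H821.KKL

universe u v

section transport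

variable {S : Type u} {S' : Type v} [Group S] [Group S']

theorem cfg0_map (e : S ≃* S') {D : Subgroup S} {x : S} (h : Cfg0 D x) :
    Cfg0 (D.map e.toMonoidHom) (e x) := by
  have hmem : ∀ {H : Subgroup S} {s : S}, e s ∈ H.map e.toMonoidHom ↔ s ∈ H := by
    intro H s
    constructor
    · rintro ⟨a, ha, hs⟩
      rwa [← e.injective hs]
    · exact fun hs => ⟨s, hs, rfl⟩
  have hsur : ∀ s' : S', ∃ s : S, e s = s' := e.surjective
  have hcm : ∀ {H' : Subgroup S'} {s : S}, s ∈ H'.comap e.toMonoidHom ↔ e s ∈ H' := fun {_ _} => Iff.rfl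
  have hp : ∀ {H' : Subgroup S'}, IsPGroup 2 H' → IsPGroup 2 ↥(H'.comap e.toMonoidHom) := fun {_} hH =>
    hH.comap_of_injective e.toMonoidHom e.injective
  constructor
  · constructor
    · rw [Subgroup.card_map_of_injective e.injective]
      exact h.e8.card
    · rintro _ ⟨d, hd, rfl⟩
      show e d * e d = 1
      rw [← map_mul, h.e8.inv d hd, map_one]
  · rw [MulEquiv.orderOf_eq]
    exact h.odd
  · rintro _ ⟨d, hd, rfl⟩
    show e d * e x = e x * e d
    rw [← map_mul, h.comm d hd, map_mul]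
  · intro Q hQ hc
    obtain ⟨c, hc1, hc2⟩ := h.syl (Q.comap e.toMonoidHom) (hp hQ) (fun q hq => by
      have h1 := hc (e q) hq
      rw [← map_mul, ← map_mul] at h1
      exact e.injective h1)
    refine ⟨e c, by rw [← map_mul, hc1, map_mul], fun q hq => ?_⟩
    obtain ⟨q, rfl⟩ := hsur q
    rw [← map_mul, ← map_inv, ← map_mul, hmem]
    exact hc2 q hq
  · obtain ⟨y, hy⟩ := h.seven
    refine ⟨e y, ?_, ?_, ?_⟩
    · intro d
      obtain ⟨d, rfl⟩ := hsur d
      rw [← map_mul, ← map_inv, ← map_mul, hmem, hmem]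
      exact hy.norm d
    · rw [MulEquiv.orderOf_eq]
      exact hy.seven
    · rintro _ ⟨a, ha, rfl⟩ ha1 _ ⟨b, hb, rfl⟩ hb1
      obtain ⟨k, hk⟩ := hy.trans a ha (fun h => ha1 (by rw [h, map_one])) b hb (fun h => hb1 (by rw [h, map_one]))
      refine ⟨k, ?_⟩
      show (e y) ^ k * e a * ((e y) ^ k)⁻¹ = e b
      rw [← map_pow, ← map_mul, ← map_inv, ← map_mul, hk]
  · intro R hR N hN hNR hn
    have hR' : ∀ r ∈ R, ∃ d ∈ D, e d = r := fun r hr => hR hr
    have h1 := h.rad (R.comap e.toMonoidHom) (fun r hr => hmem.1 (hR hr)) (N.comap e.toMonoidHom) (hp hN)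
      (by
        intro n hn r hr
        have h2 : e r * e n = e n * e r := hNR hn (e r) hr
        rw [← map_mul, ← map_mul] at h2
        exact e.injective h2)
      (by
        intro c hc n hn'
        rw [hcm, map_mul, map_mul, map_inv]
        refine hn (e c) ?_ (e n) hn'
        intro r hr
        obtain ⟨r, rfl⟩ := hsur r
        rw [← map_mul, ← map_mul, hc r hr])
    intro n hn'
    obtain ⟨n, rfl⟩ := hsur n
    exact hmem.2 (h1 hn')

theorem noCfg_congr (e : S ≃* S') (h : NoCfg S') : NoCfg S := fun _ _ hc => h _ _ (cfg0_map e hc)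

end transport

section

variable {S : Type u} [Group S] {D : Subgroup S} {x : S}

/-- a normal 2-subgroup `N` of `C(z)`, `g z g⁻¹ ∈ D`: `g N g⁻¹ ≤ D` -/
theorem conj_mem_of (h : Cfg0 D x) {z g : S} (hz : g * z * g⁻¹ ∈ D) {N : Subgroup S} (hN : IsPGroup 2 N)
    (hNz : ∀ n ∈ N, n * z = z * n) (hn : ∀ c, c * z = z * c → ∀ n ∈ N, c * n * c⁻¹ ∈ N) {n : S} (hnN : n ∈ N) :
    g * n * g⁻¹ ∈ D := by
  have hcz : ∀ {c : S}, c ∈ centralizer ((Subgroup.zpowers (g * z * g⁻¹) : Subgroup S) : Set S) →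
      g⁻¹ * c * g * z = z * (g⁻¹ * c * g) := by
    intro c hc
    have h1 : g * z * g⁻¹ * c = c * (g * z * g⁻¹) := hc _ (Subgroup.mem_zpowers _)
    calc g⁻¹ * c * g * z = g⁻¹ * (c * (g * z * g⁻¹)) * g := by group
      _ = g⁻¹ * (g * z * g⁻¹ * c) * g := by rw [h1]
      _ = _ := by group
  refine h.rad (Subgroup.zpowers (g * z * g⁻¹)) (Subgroup.zpowers_le.2 hz) (N.map (MulAut.conj g).toMonoidHom)
    (hN.map _) ?_ ?_ ⟨n, hnN, rfl⟩
  · rintro _ ⟨n, hn', rfl⟩ r hr
    have h1 : g * z * g⁻¹ * (g * n * g⁻¹) = g * n * g⁻¹ * (g * z * g⁻¹) := by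
      calc g * z * g⁻¹ * (g * n * g⁻¹) = g * (z * n) * g⁻¹ := by group
        _ = g * (n * z) * g⁻¹ := by rw [hNz n hn']
        _ = _ := by group
    obtain ⟨k, rfl⟩ := Subgroup.mem_zpowers_iff.1 hr
    exact (Commute.zpow_left h1 k)
  · rintro c hc _ ⟨n, hn', rfl⟩
    refine ⟨g⁻¹ * c * g * n * (g⁻¹ * c * g)⁻¹, hn _ (hcz hc) n hn', ?_⟩
    show g * (g⁻¹ * c * g * n * (g⁻¹ * c * g)⁻¹) * g⁻¹ = c * (g * n * g⁻¹) * c⁻¹
    group

/-- a normal 2-subgroup of order at least 16 of `C(z)`: `z` has no conjugate in `D` -/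
theorem not_mem_conj [Finite S] (h : Cfg0 D x) {z : S} {N : Subgroup S} (hN : IsPGroup 2 N)
    (hNz : ∀ n ∈ N, n * z = z * n) (hn : ∀ c, c * z = z * c → ∀ n ∈ N, c * n * c⁻¹ ∈ N) (hc : 8 < Nat.card N) (g : S) :
    g * z * g⁻¹ ∉ D := by
  intro hz
  have h1 : Nat.card N ≤ Nat.card D := by
    refine Nat.card_le_card_of_injective (fun n : N => (⟨g * n * g⁻¹, conj_mem_of h hz hN hNz hn n.2⟩ : D)) ?_
    intro a b hab
    have h2 : g * (a : S) * g⁻¹ = g * (b : S) * g⁻¹ := congrArg Subtype.val hab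
    exact Subtype.ext (mul_left_cancel (mul_right_cancel h2))
  rw [h.e8.card] at h1
  omega

/-- three independent elements of `D` -/
theorem exists_three (h : E8 D) : ∃ t ∈ D, ∃ d ∈ D, ∃ s ∈ D, t ≠ 1 ∧ d ≠ 1 ∧ s ≠ 1 ∧ t * d ≠ 1 ∧ t * s ≠ 1 ∧
    d * s ≠ 1 ∧ t * (d * s) ≠ 1 ∧ t * d = d * t ∧ t * s = s * t ∧ d * s = s * d := by
  have hfin : Finite D := Nat.finite_of_card_ne_zero (by rw [h.card]; norm_num)
  have hcomm : ∀ a ∈ D, ∀ b ∈ D, a * b = b * a := by
    intro a ha b hb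
    have h1 := h.inv (a * b) (D.mul_mem ha hb)
    have h2 := h.inv a ha
    have h3 := h.inv b hb
    calc a * b = a * (a * b * (a * b)) * b := by rw [h1, mul_one]
      _ = (a * a) * (b * a) * (b * b) := by group
      _ = b * a := by rw [h2, h3, one_mul, mul_one]
  have key : ∀ F : Finset S, F.card < 8 → ∃ a ∈ D, a ∉ F := by
    intro F hF
    by_contra hcon
    push Not at hcon
    have h1 : Nat.card D ≤ F.card := by
      have h2 := Nat.card_mono (Finset.finite_toSet F) (show (D : Set S) ⊆ (F : Set S) from fun a ha => hcon a ha)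
      rw [Nat.card_coe_set_eq (F : Set S), Set.ncard_coe_finset] at h2
      exact h2
    rw [h.card] at h1
    omega
  classical
  obtain ⟨t, htD, ht⟩ := key {1} (by simp)
  obtain ⟨d, hdD, hd⟩ := key {1, t} (lt_of_le_of_lt (Finset.card_le_two) (by norm_num))
  obtain ⟨s, hsD, hs⟩ := key {1, t, d, t * d} (lt_of_le_of_lt (Finset.card_le_four) (by norm_num))
  simp only [Finset.mem_insert, Finset.mem_singleton, not_or] at ht hd hs
  have hinv : ∀ a ∈ D, ∀ b, a * b = 1 → b = a := by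
    intro a ha b hab
    calc b = (a * a) * b := by rw [h.inv a ha, one_mul]
      _ = a * (a * b) := by group
      _ = a := by rw [hab, mul_one]
  refine ⟨t, htD, d, hdD, s, hsD, ht, hd.1, hs.1, fun h1 => hd.2 (hinv t htD d h1), fun h1 => hs.2.1 (hinv t htD s h1),
    fun h1 => hs.2.2.1 (hinv d hdD s h1), fun h1 => hs.2.2.2 ?_, hcomm t htD d hdD, hcomm t htD s hsD,
    hcomm d hdD s hsD⟩
  rw [← mul_assoc] at h1
  exact hinv (t * d) (D.mul_mem htD hdD) s h1

end

open Cfsg.Agent.MonsterX Cfsg.Agent.MonsterX.Model Cfsg.Agent.MonsterX.MainPack Cfsg.Agent.MonsterX.MainSimple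
  Cfsg.Agent.MonsterX.MainBasic Cfsg.Agent.MonsterU.Assembly Cfsg.Agent.MonsterN in
theorem noCfg_model : NoCfg ↥InstData.M.G := by
  intro D x h
  have hfin : Finite ↥InstData.M.G := G_finite LitFin.all.hO
  have : Fact (Nat.Prime 2) := ⟨Nat.prime_two⟩
  have hL := Cfsg.Agent.MonsterU.ModelChart.large LitFin.all.hG LitFin.all.hR LitFin.all.hL LitFin.all.hO LitFin.all.hT
  have hcard : Nat.card (InstData.M.Q.subgroupOf InstData.M.G) = 2 ^ 25 := by
    rw [← LitFin.all.hG.Q_card]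
    exact Nat.card_congr (Subgroup.subgroupOfEquivOfLe (LitFin.all.hG.Q_le.trans C_le)).toEquiv
  have hz : ∀ g, g * zG LitFin.all.hG * g⁻¹ ∉ D := fun g =>
    not_mem_conj h (Cfsg.Agent.LargeExtra.Base.isPGroup hL) (fun n hn => hL.comm_z n hn) (fun c hc n hn => hL.conj_mem c hc n hn)
      (by rw [hcard]; norm_num) g
  have hTA : ∀ d ∈ D, d ≠ 1 → LThreeB.Row.TA d := by
    intro d hd hd1
    rcases LitFin.all.classes d (h.e8.inv d hd) hd1 with ⟨g, hg⟩ | ⟨g, hg⟩
    · exact absurd (hg ▸ hd) (hz g)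
    · exact isConj_iff.2 ⟨g, hg⟩
  obtain ⟨t, ht, d, hd, s, hs, t1, d1, s1, td, ts, ds, tds, c1, c2, c3⟩ := exists_three h.e8
  exact Cfsg.Agent.MThirteen.TwoARow.no_pure (hTA t ht t1) (hTA d hd d1) (hTA s hs s1) (hTA _ (D.mul_mem ht hd) td)
    (hTA _ (D.mul_mem ht hs) ts) (hTA _ (D.mul_mem hd hs) ds) (hTA _ (D.mul_mem ht (D.mul_mem hd hs)) tds) c1 c2 c3

/-- **The Monster** -/
theorem E_M {S : Type u} [Group S] (h : Spor.IsoM S) : NoCfg S := by
  obtain ⟨e⟩ := h
  obtain ⟨f⟩ := Cfsg.Agent.MonsterP.Equiv.equiv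
  exact noCfg_congr (e.trans f) noCfg_model

end Cfsg.Agent.H821.KKL
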